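import Groth.Prelude.Def_CAlgX
import Groth.Prelude.Def_W4stkadequatePure
import Mathlib.Algebra.Module.CharacterModule
import Mathlib.Algebra.Module.FinitePresentation
import Mathlib.LinearAlgebra.DFinsupp
import Mathlib.LinearAlgebra.Finsupp.LinearCombination
import Mathlib.LinearAlgebra.TensorProduct.Finiteness
import Mathlib.LinearAlgebra.TensorProduct.RightExactness

/-!
# Pure projective and pure injective modules
-/

set_option autoImplicit false
set_option maxHeartbeats 400000

universe u

open TensorProduct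

noncomputable section

namespace Groth.Agent.PureExt8

variable (R : Type u) [CommRing R]

/-- Lifting property against surjections with universally injective kernel. -/
def LiftProp (P : Type u) [AddCommGroup P] [Module R P] : Prop :=
  ∀ ⦃L N : Type u⦄ [AddCommGroup L] [Module R L] [AddCommGroup N] [Module R N] (g : L →ₗ[R] N),
    Function.Surjective g → CAlgX.UniversallyInjective R (LinearMap.ker g).subtype →
    ∀ φ : P →ₗ[R] N, ∃ ψ : P →ₗ[R] L, g ∘ₗ ψ = φ

/-- Extension property along universally injective maps. -/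
def ExtProp (I : Type u) [AddCommGroup I] [Module R I] : Prop :=
  ∀ ⦃K L : Type u⦄ [AddCommGroup K] [Module R K] [AddCommGroup L] [Module R L] (f : K →ₗ[R] L),
    CAlgX.UniversallyInjective R f → ∀ φ : K →ₗ[R] I, ∃ ψ : L →ₗ[R] I, ψ ∘ₗ f = φ

/-- Being a direct summand of a direct sum of finitely presented modules. -/
def SummandFP (P : Type u) [AddCommGroup P] [Module R P] : Prop :=
  ∃ (ι : Type u) (Q : ι → Type u) (_ : ∀ i, AddCommGroup (Q i)) (_ : ∀ i, Module R (Q i)),
    (∀ i, Module.FinitePresentation R (Q i)) ∧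
    ∃ (s : P →ₗ[R] (Π₀ i, Q i)) (r : (Π₀ i, Q i) →ₗ[R] P), r ∘ₗ s = LinearMap.id

variable {R}

theorem ui_charEval (M : Type u) [AddCommGroup M] [Module R M] :
    CAlgX.UniversallyInjective R (PureExt.charEval R M) := by
  intro Q _ _
  rw [injective_iff_map_eq_zero]
  intro z hz
  refine CharacterModule.eq_zero_of_character_apply fun χ => ?_
  let θ : CharacterModule (CharacterModule M) ⊗[R] Q →+ AddCircle (1 : ℚ) :=
    TensorProduct.liftAddHom
      { toFun := fun φ =>
          { toFun := fun q => φ ({ toFun := fun m => χ (m ⊗ₜ[R] q)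
                                   map_zero' := by rw [TensorProduct.zero_tmul, map_zero]
                                   map_add' := fun m m' => by rw [TensorProduct.add_tmul, map_add] } : M →+ AddCircle (1 : ℚ))
            map_zero' := by
              refine (congrArg φ ?_).trans φ.map_zero
              refine DFunLike.ext _ _ fun m => ?_
              show χ (m ⊗ₜ[R] (0 : Q)) = 0
              rw [TensorProduct.tmul_zero, map_zero]
            map_add' := fun q q' => by
              refine (congrArg φ ?_).trans (φ.map_add _ _)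
              refine DFunLike.ext _ _ fun m => ?_
              show χ (m ⊗ₜ[R] (q + q')) = χ (m ⊗ₜ[R] q) + χ (m ⊗ₜ[R] q')
              rw [TensorProduct.tmul_add, map_add] }
        map_zero' := AddMonoidHom.ext fun q => rfl
        map_add' := fun φ φ' => AddMonoidHom.ext fun q => rfl }
      (fun r φ q => by
        show φ (r • (_ : CharacterModule M)) = φ _
        refine congrArg φ (DFunLike.ext _ _ fun m => ?_)
        show χ ((r • m) ⊗ₜ[R] q) = χ (m ⊗ₜ[R] (r • q))
        rw [TensorProduct.smul_tmul])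
  have h : ∀ w, θ ((PureExt.charEval R M).rTensor Q w) = χ w := by
    intro w
    induction w using TensorProduct.induction_on with
    | zero => rw [map_zero, map_zero, map_zero]
    | tmul m q => rfl
    | add x y hx hy => rw [map_add, map_add, hx, hy, map_add]
  rw [← h, hz, map_zero]

theorem injective_of_ui {K L : Type u} [AddCommGroup K] [Module R K] [AddCommGroup L] [Module R L]
    {f : K →ₗ[R] L} (hf : CAlgX.UniversallyInjective R f) : Function.Injective f := by
  intro x y h
  have h1 : f.rTensor R (x ⊗ₜ[R] 1) = f.rTensor R (y ⊗ₜ[R] 1) := by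
    rw [LinearMap.rTensor_tmul, LinearMap.rTensor_tmul, h]
  simpa using congrArg (TensorProduct.rid R K) (hf R h1)

theorem exact_of_rTensor {L M N : Type u} [AddCommGroup L] [Module R L] [AddCommGroup M] [Module R M]
    [AddCommGroup N] [Module R N] {f : L →ₗ[R] M} {g : M →ₗ[R] N}
    (h : Function.Exact (f.rTensor R) (g.rTensor R)) : Function.Exact f g :=
  fun y => by
    constructor
    · intro hy
      obtain ⟨x, hx⟩ := (h (y ⊗ₜ[R] 1)).1 (by rw [LinearMap.rTensor_tmul, hy, TensorProduct.zero_tmul])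
      refine ⟨TensorProduct.rid R L x, ?_⟩
      have h1 : ∀ w, TensorProduct.rid R M (f.rTensor R w) = f (TensorProduct.rid R L w) := by
        intro w
        induction w using TensorProduct.induction_on with
        | zero => simp
        | tmul l r => simp
        | add a b ha hb => simp only [map_add, ha, hb]
      rw [← h1, hx, TensorProduct.rid_tmul, one_smul]
    · rintro ⟨x, rfl⟩
      have h1 := (h (f.rTensor R (x ⊗ₜ[R] 1))).2 ⟨_, rfl⟩
      rw [LinearMap.rTensor_tmul, LinearMap.rTensor_tmul] at h1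
      simpa using congrArg (TensorProduct.rid R N) h1

theorem ui_range_of_exact {L M N : Type u} [AddCommGroup L] [Module R L] [AddCommGroup M] [Module R M]
    [AddCommGroup N] [Module R N] (f : L →ₗ[R] M) (g : M →ₗ[R] N)
    (h : ∀ (Q : Type u) [AddCommGroup Q] [Module R Q], Function.Exact (f.rTensor Q) (g.rTensor Q)) :
    CAlgX.UniversallyInjective R (LinearMap.range g).subtype := by
  intro Q _ _
  rw [injective_iff_map_eq_zero]
  intro z hz
  obtain ⟨w, rfl⟩ := LinearMap.rTensor_surjective Q g.surjective_rangeRestrict z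
  rw [← LinearMap.rTensor_comp_apply,
    show (LinearMap.range g).subtype ∘ₗ g.rangeRestrict = g from LinearMap.ext fun _ => rfl] at hz
  obtain ⟨v, rfl⟩ := (h Q w).1 hz
  have h0 : g.rangeRestrict ∘ₗ f = 0 :=
    LinearMap.ext fun x => Subtype.ext (((exact_of_rTensor (h R)) (f x)).2 ⟨x, rfl⟩)
  rw [← LinearMap.rTensor_comp_apply, h0, LinearMap.rTensor_zero, LinearMap.zero_apply]

/-- The lifting criterion for universal injectivity of a kernel. -/
theorem ui_ker_of_lift {L M : Type u} [AddCommGroup L] [Module R L] [AddCommGroup M] [Module R M]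
    (g : L →ₗ[R] M)
    (h : ∀ (n : ℕ) (K : Submodule R (Fin n → R)), K.FG → ∀ φ : ((Fin n → R) ⧸ K) →ₗ[R] M,
      ∃ ψ : ((Fin n → R) ⧸ K) →ₗ[R] L, g ∘ₗ ψ = φ) :
    CAlgX.UniversallyInjective R (LinearMap.ker g).subtype := by
  classical
  intro Q _ _
  rw [injective_iff_map_eq_zero]
  intro z hz
  let q : (Q →₀ R) →ₗ[R] Q := Finsupp.linearCombination R id
  have hq : Function.Surjective q := Finsupp.linearCombination_id_surjective R Q
  obtain ⟨y, rfl⟩ := LinearMap.lTensor_surjective (LinearMap.ker g) hq z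
  have h1 : q.lTensor L ((LinearMap.ker g).subtype.rTensor (Q →₀ R) y) = 0 := by
    rw [← hz, ← LinearMap.comp_apply, ← LinearMap.comp_apply, LinearMap.lTensor_comp_rTensor,
      LinearMap.rTensor_comp_lTensor]
  obtain ⟨v, hv⟩ := (lTensor_exact (M := LinearMap.ker q) (f := (LinearMap.ker q).subtype) (g := q) L
    (LinearMap.exact_subtype_ker_map q) hq _).1 h1
  obtain ⟨t, ht⟩ := TensorProduct.exists_finset v
  let e : ∀ (T : Type u) [AddCommGroup T] [Module R T], T ⊗[R] (Q →₀ R) →ₗ[R] (Q →₀ T) := fun T _ _ =>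
    (TensorProduct.finsuppScalarRight R R T Q).toLinearMap
  let k : Q →₀ LinearMap.ker g := e (LinearMap.ker g) y
  have hk : ∀ s, (k s : L) = ∑ p ∈ t, (p.2 : Q →₀ R) s • p.1 := by
    intro s
    have h2 : ∀ w, (e L ((LinearMap.ker g).subtype.rTensor (Q →₀ R) w)) s = ((e (LinearMap.ker g) w) s : L) := by
      intro w
      induction w using TensorProduct.induction_on with
      | zero => simp
      | tmul a b => simp [e]
      | add a b ha hb => simp only [map_add, Finsupp.add_apply, ha, hb, Submodule.coe_add]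
    rw [← h2, ← hv, ht, map_sum, map_sum, Finsupp.finsetSum_apply]
    simp [e]
  let S : Finset Q := t.biUnion fun p => (p.2 : Q →₀ R).support
  let n := Fintype.card ↥t
  let m : Fin n → ↥t := (Fintype.equivFin ↥t).symm
  let w : Q → Fin n → R := fun s j => (((m j).1.2 : LinearMap.ker q) : Q →₀ R) s
  let W : Submodule R (Fin n → R) := Submodule.span R (w '' ↑S)
  let φ₀ : (Fin n → R) →ₗ[R] M := Fintype.linearCombination R fun j => g (m j).1.1
  have hW : W ≤ LinearMap.ker φ₀ := by
    rw [Submodule.span_le]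
    rintro _ ⟨s, -, rfl⟩
    rw [SetLike.mem_coe, LinearMap.mem_ker, Fintype.linearCombination_apply]
    rw [Fintype.sum_equiv (Fintype.equivFin ↥t).symm _ (fun p : ↥t => (p.1.2 : Q →₀ R) s • g p.1.1)
      (fun j => rfl)]
    rw [Finset.sum_coe_sort t fun p => (p.2 : Q →₀ R) s • g p.1]
    have h3 := LinearMap.mem_ker.1 (k s).2
    rw [hk, map_sum] at h3
    simpa only [map_smul] using h3
  obtain ⟨ψ, hψ⟩ := h n W (Submodule.fg_span ((S.finite_toSet).image w)) (W.liftQ φ₀ hW)
  let l : ↥t → LinearMap.ker g := fun p =>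
    ⟨p.1.1 - ψ (W.mkQ (Pi.single (Fintype.equivFin ↥t p) 1)), by
      rw [LinearMap.mem_ker, map_sub, ← LinearMap.comp_apply g ψ, hψ, Submodule.mkQ_apply, Submodule.liftQ_apply,
        Fintype.linearCombination_apply_single, one_smul]
      simp [m]⟩
  suffices hy : y = ∑ p : ↥t, l p ⊗ₜ[R] (p.1.2 : Q →₀ R) by
    rw [hy, map_sum]
    refine Finset.sum_eq_zero fun p _ => ?_
    rw [LinearMap.lTensor_tmul, LinearMap.mem_ker.1 p.1.2.2, TensorProduct.tmul_zero]
  apply (TensorProduct.finsuppScalarRight R R (LinearMap.ker g) Q).injective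
  ext s
  show (k s : L) = _
  rw [hk, map_sum, Finsupp.finsetSum_apply, Submodule.coe_sum]
  simp only [TensorProduct.finsuppScalarRight_apply_tmul_apply, Submodule.coe_smul, l, smul_sub,
    Finset.sum_sub_distrib]
  rw [Finset.sum_coe_sort t fun p => (p.2 : Q →₀ R) s • p.1, eq_comm, sub_eq_self]
  simp only [← map_smul, ← map_sum]
  have hws : (∑ p : ↥t, (p.1.2 : Q →₀ R) s • (Pi.single (Fintype.equivFin ↥t p) 1 : Fin n → R)) = w s := by
    funext j
    rw [Finset.sum_apply, Finset.sum_eq_single ((Fintype.equivFin ↥t).symm j)]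
    · simp [w, m]
    · intro p _ hp
      have : j ≠ Fintype.equivFin ↥t p := fun e => hp (by rw [e, Equiv.symm_apply_apply])
      simp [Pi.single_apply, this]
    · simp
  rw [hws]
  have hmem : w s ∈ W := by
    by_cases hs : s ∈ S
    · exact Submodule.subset_span ⟨s, hs, rfl⟩
    · have : w s = 0 := funext fun j => Finsupp.notMem_support_iff.1 fun hj =>
        hs (Finset.mem_biUnion.2 ⟨(m j).1, (m j).2, hj⟩)
      rw [this]
      exact W.zero_mem
  rw [Submodule.mkQ_apply, (Submodule.Quotient.mk_eq_zero W).2 hmem, map_zero]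

/-- The index type of the standard cover by finitely presented modules. -/
abbrev CoverIdx (R : Type u) [CommRing R] (M : Type u) [AddCommGroup M] [Module R M] : Type u :=
  (n : ℕ) × (K : { K : Submodule R (Fin n → R) // K.FG }) × (((Fin n → R) ⧸ K.1) →ₗ[R] M)

theorem ui_ker_lsum {ι : Type u} [DecidableEq ι] {M : Type u} [AddCommGroup M] [Module R M] {Q : ι → Type u}
    [∀ i, AddCommGroup (Q i)] [∀ i, Module R (Q i)] (g : (Π₀ i, Q i) →ₗ[R] M)
    (h : ∀ (n : ℕ) (K : Submodule R (Fin n → R)), K.FG → ∀ φ : ((Fin n → R) ⧸ K) →ₗ[R] M,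
      ∃ (i : ι) (e : ((Fin n → R) ⧸ K) →ₗ[R] Q i), g ∘ₗ DFinsupp.lsingle i ∘ₗ e = φ) :
    CAlgX.UniversallyInjective R (LinearMap.ker g).subtype :=
  ui_ker_of_lift g fun n K hK φ => by
    obtain ⟨i, e, he⟩ := h n K hK φ
    exact ⟨DFinsupp.lsingle i ∘ₗ e, he⟩

/-- The members of the standard cover. -/
def CoverMod {R : Type u} [CommRing R] {M : Type u} [AddCommGroup M] [Module R M] (i : CoverIdx R M) : Type u :=
  (Fin i.1 → R) ⧸ i.2.1.1

instance {M : Type u} [AddCommGroup M] [Module R M] (i : CoverIdx R M) : AddCommGroup (CoverMod i) :=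
  inferInstanceAs (AddCommGroup ((Fin i.1 → R) ⧸ i.2.1.1))

instance {M : Type u} [AddCommGroup M] [Module R M] (i : CoverIdx R M) : Module R (CoverMod i) :=
  inferInstanceAs (Module R ((Fin i.1 → R) ⧸ i.2.1.1))

theorem exists_cover (M : Type u) [AddCommGroup M] [Module R M] :
    ∃ (ι : Type u) (Q : ι → Type u) (_ : ∀ i, AddCommGroup (Q i)) (_ : ∀ i, Module R (Q i)),
      (∀ i, Module.FinitePresentation R (Q i)) ∧
      ∃ g : (Π₀ i, Q i) →ₗ[R] M, Function.Surjective g ∧
        CAlgX.UniversallyInjective R (LinearMap.ker g).subtype := by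
  classical
  let f : ∀ i : CoverIdx R M, CoverMod i →ₗ[R] M := fun i => i.2.2
  let g : (Π₀ i : CoverIdx R M, CoverMod i) →ₗ[R] M := DFinsupp.lsum R f
  have hlift : ∀ (i : CoverIdx R M) (x : CoverMod i), g (DFinsupp.single i x) = f i x := fun i x =>
    DFinsupp.lsum_single R f i x
  refine ⟨CoverIdx R M, CoverMod, fun i => inferInstance, fun i => inferInstance, fun i => ?_, g, fun x => ?_, ?_⟩
  · have h := Module.finitePresentation_of_surjective i.2.1.1.mkQ i.2.1.1.mkQ_surjective
      (by rw [Submodule.ker_mkQ]; exact i.2.1.2)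
    exact h
  · let φ : ((Fin 1 → R) ⧸ (⊥ : Submodule R (Fin 1 → R))) →ₗ[R] M :=
      (⊥ : Submodule R (Fin 1 → R)).liftQ ((LinearMap.proj 0).smulRight x) bot_le
    refine ⟨DFinsupp.single (⟨1, ⟨⊥, Submodule.fg_bot⟩, φ⟩ : CoverIdx R M)
      (Submodule.Quotient.mk (fun _ => 1) : (Fin 1 → R) ⧸ (⊥ : Submodule R (Fin 1 → R))), ?_⟩
    refine (hlift _ _).trans ?_
    show ((LinearMap.proj 0).smulRight x : (Fin 1 → R) →ₗ[R] M) (fun _ => 1) = x
    rw [LinearMap.smulRight_apply, LinearMap.proj_apply, one_smul]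
  · refine ui_ker_lsum g fun n K hK φ => ⟨(⟨n, ⟨K, hK⟩, φ⟩ : CoverIdx R M), LinearMap.id, ?_⟩
    exact LinearMap.ext fun x => hlift (⟨n, ⟨K, hK⟩, φ⟩ : CoverIdx R M) x

theorem liftProp_finitePresentation (P : Type u) [AddCommGroup P] [Module R P] [Module.FinitePresentation R P] :
    LiftProp R P := by
  classical
  intro L N _ _ _ _ g hg hui φ
  obtain ⟨n, K, e, hK⟩ := Module.FinitePresentation.exists_fin R P
  obtain ⟨s, hs⟩ := hK
  choose l hl using fun i => hg (φ (e.symm (K.mkQ (Pi.single i 1))))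
  let ψ₀ : (Fin n → R) →ₗ[R] L := Fintype.linearCombination R l
  have hψ₀ : g ∘ₗ ψ₀ = φ ∘ₗ e.symm.toLinearMap ∘ₗ K.mkQ :=
    (Pi.basisFun R (Fin n)).ext fun i => by
      simp [ψ₀, Fintype.linearCombination_apply_single, hl]
  let a : ↥s → Fin n → R := fun r => r.1
  have hker : ∀ r : ↥s, ψ₀ (a r) ∈ LinearMap.ker g := fun r => by
    rw [LinearMap.mem_ker, ← LinearMap.comp_apply, hψ₀]
    have : K.mkQ (a r) = 0 := by
      rw [Submodule.mkQ_apply, Submodule.Quotient.mk_eq_zero, ← hs]
      exact Submodule.subset_span r.2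
    show φ (e.symm (K.mkQ (a r))) = 0
    rw [this, map_zero, map_zero]
  -- the linear system
  let T : (↥s → R) →ₗ[R] (↥s → R) ⧸ Submodule.span R (Set.range fun i => fun r => a r i) :=
    (Submodule.span R (Set.range fun i => fun r : ↥s => a r i)).mkQ
  let B : (Fin n → R) →ₗ[R] (↥s → R) := Fintype.linearCombination R fun i => fun r => a r i
  have hB : LinearMap.range B = Submodule.span R (Set.range fun i => fun r : ↥s => a r i) :=
    Fintype.range_linearCombination R _
  have hex : Function.Exact B T := by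
    rw [LinearMap.exact_iff]
    exact (Submodule.ker_mkQ _).trans hB.symm
  let z : LinearMap.ker g ⊗[R] (↥s → R) := ∑ r : ↥s, (⟨ψ₀ (a r), hker r⟩ : LinearMap.ker g) ⊗ₜ[R] Pi.single r 1
  have hz : T.lTensor (LinearMap.ker g) z = 0 := by
    refine hui _ ?_
    rw [map_zero]
    have h1 : (LinearMap.ker g).subtype.rTensor _ (T.lTensor (LinearMap.ker g) z) =
        T.lTensor L (∑ i, l i ⊗ₜ[R] (fun r : ↥s => a r i)) := by
      rw [← LinearMap.comp_apply, LinearMap.rTensor_comp_lTensor, ← LinearMap.lTensor_comp_rTensor,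
        LinearMap.comp_apply]
      congr 1
      simp only [z, map_sum, LinearMap.rTensor_tmul, Submodule.subtype_apply, ψ₀,
        Fintype.linearCombination_apply, TensorProduct.sum_tmul, TensorProduct.smul_tmul]
      rw [Finset.sum_comm]
      refine Finset.sum_congr rfl fun i _ => ?_
      rw [← TensorProduct.tmul_sum]
      congr 1
      funext r
      simp [Finset.sum_apply, Pi.single_apply]
    rw [h1, map_sum]
    refine Finset.sum_eq_zero fun i _ => ?_
    rw [LinearMap.lTensor_tmul]
    have : T (fun r : ↥s => a r i) = 0 :=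
      (Submodule.Quotient.mk_eq_zero _).2 (Submodule.subset_span ⟨i, rfl⟩)
    rw [this, TensorProduct.tmul_zero]
  obtain ⟨w, hw⟩ := (lTensor_exact (LinearMap.ker g) hex (Submodule.mkQ_surjective _) z).1 hz
  let c : Fin n → LinearMap.ker g := TensorProduct.piScalarRight R R (LinearMap.ker g) (Fin n) w
  have hc : ∀ r : ↥s, ∑ i, a r i • c i = ⟨ψ₀ (a r), hker r⟩ := by
    intro r
    have h2 := congrArg (fun t => TensorProduct.piScalarRight R R (LinearMap.ker g) ↥s t r) hw
    have h3 : ∀ w, TensorProduct.piScalarRight R R (LinearMap.ker g) ↥s (B.lTensor (LinearMap.ker g) w) r =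
        ∑ i, a r i • TensorProduct.piScalarRight R R (LinearMap.ker g) (Fin n) w i := by
      intro w
      induction w using TensorProduct.induction_on with
      | zero => simp
      | tmul k v =>
        simp only [LinearMap.lTensor_tmul, TensorProduct.piScalarRight_apply, TensorProduct.piScalarRightHom_tmul,
          B, Fintype.linearCombination_apply, Finset.sum_apply, Pi.smul_apply, smul_eq_mul, Finset.sum_smul]
        exact Finset.sum_congr rfl fun i _ => by rw [smul_smul, mul_comm]
      | add x y hx hy => simp only [map_add, Pi.add_apply, hx, hy, smul_add, Finset.sum_add_distrib]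
    simp only [h3] at h2
    refine h2.trans ?_
    simp [z, map_sum, Finset.sum_apply, Pi.single_apply]
  let ψ₁ : (Fin n → R) →ₗ[R] L := ψ₀ - (LinearMap.ker g).subtype ∘ₗ Fintype.linearCombination R c
  have hψ₁ : K ≤ LinearMap.ker ψ₁ := by
    rw [← hs, Submodule.span_le]
    intro r hr
    rw [SetLike.mem_coe, LinearMap.mem_ker]
    show ψ₀ r - ((Fintype.linearCombination R c r : LinearMap.ker g) : L) = 0
    rw [show Fintype.linearCombination R c r = ⟨ψ₀ r, hker ⟨r, hr⟩⟩ from
      (Fintype.linearCombination_apply R c r).trans (hc ⟨r, hr⟩), sub_self]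
  refine ⟨K.liftQ ψ₁ hψ₁ ∘ₗ e.toLinearMap, LinearMap.ext fun p => ?_⟩
  obtain ⟨v, hv⟩ := K.mkQ_surjective (e p)
  show g (K.liftQ ψ₁ hψ₁ (e p)) = φ p
  rw [← hv, Submodule.mkQ_apply, Submodule.liftQ_apply]
  show g (ψ₀ v - ((Fintype.linearCombination R c v : LinearMap.ker g) : L)) = φ p
  rw [map_sub, LinearMap.mem_ker.1 (Fintype.linearCombination R c v).2, sub_zero, ← LinearMap.comp_apply, hψ₀]
  show φ (e.symm (K.mkQ v)) = φ p
  rw [hv, LinearEquiv.symm_apply_apply]

theorem liftProp_summandFP {P : Type u} [AddCommGroup P] [Module R P] (h : SummandFP R P) :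
    LiftProp R P := by
  classical
  obtain ⟨ι, Q, _, _, hQ, s, r, hrs⟩ := h
  intro L N _ _ _ _ g hg hui φ
  choose ψ hψ using fun i =>
    haveI := hQ i
    liftProp_finitePresentation (R := R) (Q i) g hg hui (φ ∘ₗ r ∘ₗ DFinsupp.lsingle i)
  refine ⟨DFinsupp.lsum ℕ ψ ∘ₗ s, ?_⟩
  have : g ∘ₗ DFinsupp.lsum ℕ ψ = φ ∘ₗ r := DFinsupp.lhom_ext' fun i => LinearMap.ext fun x => by
    simp only [LinearMap.comp_apply, DFinsupp.lsingle_apply, DFinsupp.lsum_single]
    exact LinearMap.congr_fun (hψ i) x
  rw [← LinearMap.comp_assoc, this, LinearMap.comp_assoc, hrs, LinearMap.comp_id]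

theorem liftProp_iff (P : Type u) [AddCommGroup P] [Module R P] : LiftProp R P ↔ SummandFP R P := by
  refine ⟨fun h => ?_, liftProp_summandFP⟩
  obtain ⟨ι, Q, _, _, hQ, g, hg, hui⟩ := exists_cover (R := R) P
  obtain ⟨ψ, hψ⟩ := h g hg hui LinearMap.id
  exact ⟨ι, Q, inferInstance, inferInstance, hQ, ψ, g, hψ⟩

theorem extProp_characterModule (X : Type u) [AddCommGroup X] [Module R X] :
    ExtProp R (CharacterModule X) := by
  intro K L _ _ _ _ f hf φ
  obtain ⟨ψ, hψ⟩ := rTensor_injective_iff_lcomp_surjective.1 (hf X) φ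
  exact ⟨ψ, hψ⟩

theorem extProp_iff (I : Type u) [AddCommGroup I] [Module R I] :
    ExtProp R I ↔ ∃ r : CharacterModule (CharacterModule I) →ₗ[R] I, r ∘ₗ PureExt.charEval R I = LinearMap.id := by
  refine ⟨fun h => h _ (ui_charEval I) LinearMap.id, fun ⟨r, hr⟩ K L _ _ _ _ f hf φ => ?_⟩
  obtain ⟨ψ, hψ⟩ := extProp_characterModule (R := R) (CharacterModule I) f hf (PureExt.charEval R I ∘ₗ φ)
  exact ⟨r ∘ₗ ψ, by rw [LinearMap.comp_assoc, hψ, ← LinearMap.comp_assoc, hr, LinearMap.id_comp]⟩

end Groth.Agent.PureExt8
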