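import Groth.Agent.Lib.PureExt8.Basic
import Mathlib.Algebra.Category.ModuleCat.Monoidal.Basic
import Mathlib.CategoryTheory.Monoidal.Preadditive
import Mathlib.Algebra.Homology.QuasiIso
import Mathlib.Algebra.Homology.Additive
import Mathlib.Algebra.Homology.Homotopy
import Mathlib.Algebra.Homology.ShortComplex.ModuleCat
import Mathlib.Algebra.Category.ModuleCat.Abelian

/-!
# Pure projective and pure injective resolutions
-/

set_option autoImplicit false
set_option maxHeartbeats 400000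

universe u

open CategoryTheory Limits TensorProduct MonoidalCategory

noncomputable section

namespace Groth.Agent.PureExt8

variable {R : Type u} [CommRing R]

theorem hom_tensorRight_map (T : ModuleCat.{u} R) {X Y : ModuleCat.{u} R} (f : X ⟶ Y) :
    ((tensorRight T).map f).hom = f.hom.rTensor T :=
  rfl

theorem exactAt_iff_tensor (C : ChainComplex (ModuleCat.{u} R) ℕ) (T : ModuleCat.{u} R) (n : ℕ) :
    (((tensorRight T).mapHomologicalComplex (ComplexShape.down ℕ)).obj C).ExactAt (n + 1) ↔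
      Function.Exact ((C.d (n + 2) (n + 1)).hom.rTensor T) ((C.d (n + 1) n).hom.rTensor T) := by
  rw [HomologicalComplex.exactAt_iff' _ (n + 2) (n + 1) n (by simp only [ChainComplex.prev]; rfl) (by simp),
    ShortComplex.ShortExact.moduleCat_exact_iff_function_exact, ← hom_tensorRight_map, ← hom_tensorRight_map]
  exact Iff.rfl

theorem exactAt_iff_tensor_up (C : CochainComplex (ModuleCat.{u} R) ℕ) (T : ModuleCat.{u} R) (n : ℕ) :
    (((tensorRight T).mapHomologicalComplex (ComplexShape.up ℕ)).obj C).ExactAt (n + 1) ↔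
      Function.Exact ((C.d n (n + 1)).hom.rTensor T) ((C.d (n + 1) (n + 2)).hom.rTensor T) := by
  rw [HomologicalComplex.exactAt_iff' _ n (n + 1) (n + 2) (by simp) (by simp only [CochainComplex.next]; rfl),
    ShortComplex.ShortExact.moduleCat_exact_iff_function_exact, ← hom_tensorRight_map, ← hom_tensorRight_map]
  exact Iff.rfl

variable {M : ModuleCat.{u} R}

theorem exactAt_single_tensor (T : ModuleCat.{u} R) (n : ℕ) :
    (((tensorRight T).mapHomologicalComplex (ComplexShape.down ℕ)).obj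
      ((ChainComplex.single₀ (ModuleCat.{u} R)).obj M)).ExactAt (n + 1) := by
  rw [HomologicalComplex.exactAt_iff' _ (n + 2) (n + 1) n (by simp only [ChainComplex.prev]; rfl) (by simp)]
  exact ShortComplex.exact_of_isZero_X₂ _
    (Functor.map_isZero (tensorRight T)
      (HomologicalComplex.isZero_single_obj_X (ComplexShape.down ℕ) 0 M (n + 1) (Nat.succ_ne_zero n)))

theorem exactAt_single_tensor_up (T : ModuleCat.{u} R) (n : ℕ) :
    (((tensorRight T).mapHomologicalComplex (ComplexShape.up ℕ)).obj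
      ((CochainComplex.single₀ (ModuleCat.{u} R)).obj M)).ExactAt (n + 1) := by
  rw [HomologicalComplex.exactAt_iff' _ n (n + 1) (n + 2) (by simp) (by simp only [CochainComplex.next]; rfl)]
  exact ShortComplex.exact_of_isZero_X₂ _
    (Functor.map_isZero (tensorRight T)
      (HomologicalComplex.isZero_single_obj_X (ComplexShape.up ℕ) 0 M (n + 1) (Nat.succ_ne_zero n)))

theorem quasiIsoAt_zero_iff (C : ChainComplex (ModuleCat.{u} R) ℕ)
    (ε : C ⟶ (ChainComplex.single₀ (ModuleCat.{u} R)).obj M) (T : ModuleCat.{u} R) :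
    QuasiIsoAt (((tensorRight T).mapHomologicalComplex (ComplexShape.down ℕ)).map ε) 0 ↔
      Function.Exact ((C.d 1 0).hom.rTensor T) ((ε.f 0).hom.rTensor T) ∧
        Function.Surjective ((ε.f 0).hom.rTensor T) := by
  rw [ChainComplex.quasiIsoAt₀_iff, ShortComplex.quasiIso_iff_of_zeros',
    ShortComplex.ShortExact.moduleCat_exact_iff_function_exact, ModuleCat.epi_iff_surjective, ← hom_tensorRight_map,
    ← hom_tensorRight_map]
  · exact Iff.rfl
  · exact (congrArg (tensorRight T).map (C.shape 0 0 (by simp))).trans ((tensorRight T).map_zero _ _)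
  · exact (congrArg (tensorRight T).map (HomologicalComplex.single_obj_d _ _ _ _ _)).trans ((tensorRight T).map_zero _ _)
  · exact (congrArg (tensorRight T).map (HomologicalComplex.single_obj_d _ _ _ _ _)).trans ((tensorRight T).map_zero _ _)

theorem quasiIsoAt_zero_iff_up (C : CochainComplex (ModuleCat.{u} R) ℕ)
    (η : (CochainComplex.single₀ (ModuleCat.{u} R)).obj M ⟶ C) (T : ModuleCat.{u} R) :
    QuasiIsoAt (((tensorRight T).mapHomologicalComplex (ComplexShape.up ℕ)).map η) 0 ↔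
      Function.Exact ((η.f 0).hom.rTensor T) ((C.d 0 1).hom.rTensor T) ∧
        Function.Injective ((η.f 0).hom.rTensor T) := by
  rw [CochainComplex.quasiIsoAt₀_iff, ShortComplex.quasiIso_iff_of_zeros,
    ShortComplex.ShortExact.moduleCat_exact_iff_function_exact, ModuleCat.mono_iff_injective, ← hom_tensorRight_map,
    ← hom_tensorRight_map]
  · exact Iff.rfl
  · exact (congrArg (tensorRight T).map (HomologicalComplex.single_obj_d _ _ _ _ _)).trans ((tensorRight T).map_zero _ _)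
  · exact (congrArg (tensorRight T).map (HomologicalComplex.single_obj_d _ _ _ _ _)).trans ((tensorRight T).map_zero _ _)
  · exact (congrArg (tensorRight T).map (C.shape 0 0 (by simp))).trans ((tensorRight T).map_zero _ _)

/-- Universally exact augmented chain complexes. -/
structure UExact (C : ChainComplex (ModuleCat.{u} R) ℕ) (ε₀ : C.X 0 →ₗ[R] M) : Prop where
  succ : ∀ (n : ℕ) (T : Type u) [AddCommGroup T] [Module R T],
    Function.Exact ((C.d (n + 2) (n + 1)).hom.rTensor T) ((C.d (n + 1) n).hom.rTensor T)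
  zero : ∀ (T : Type u) [AddCommGroup T] [Module R T],
    Function.Exact ((C.d 1 0).hom.rTensor T) (ε₀.rTensor T)
  surj : Function.Surjective ε₀

/-- Universally exact augmented cochain complexes. -/
structure UExactUp (C : CochainComplex (ModuleCat.{u} R) ℕ) (η₀ : M →ₗ[R] C.X 0) : Prop where
  succ : ∀ (n : ℕ) (T : Type u) [AddCommGroup T] [Module R T],
    Function.Exact ((C.d n (n + 1)).hom.rTensor T) ((C.d (n + 1) (n + 2)).hom.rTensor T)
  zero : ∀ (T : Type u) [AddCommGroup T] [Module R T],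
    Function.Exact (η₀.rTensor T) ((C.d 0 1).hom.rTensor T)
  inj : CAlgX.UniversallyInjective R η₀

theorem surjective_of_rTensor {X Y : Type u} [AddCommGroup X] [Module R X] [AddCommGroup Y] [Module R Y]
    (f : X →ₗ[R] Y) (hf : Function.Surjective (f.rTensor R)) : Function.Surjective f := by
  intro x
  obtain ⟨z, hz⟩ := hf (x ⊗ₜ[R] (1 : R))
  refine ⟨TensorProduct.rid R _ z, ?_⟩
  have h1 : ∀ w, TensorProduct.rid R _ (f.rTensor R w) = f (TensorProduct.rid R _ w) := by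
    intro w
    induction w using TensorProduct.induction_on with
    | zero => simp
    | tmul l r => simp
    | add a b ha hb => simp only [map_add, ha, hb]
  rw [← h1, hz]
  simp

theorem quasiIso_iff_uExact (C : ChainComplex (ModuleCat.{u} R) ℕ)
    (ε : C ⟶ (ChainComplex.single₀ (ModuleCat.{u} R)).obj M) :
    (∀ T : ModuleCat.{u} R, QuasiIso (((tensorRight T).mapHomologicalComplex (ComplexShape.down ℕ)).map ε)) ↔
      UExact C (ε.f 0).hom := by
  constructor
  · intro h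
    refine ⟨fun n T _ _ => ?_, fun T _ _ => ?_, ?_⟩
    · haveI := h (ModuleCat.of R T)
      exact (exactAt_iff_tensor C (ModuleCat.of R T) n).1
        ((quasiIsoAt_iff_exactAt' (((tensorRight (ModuleCat.of R T)).mapHomologicalComplex
          (ComplexShape.down ℕ)).map ε) (n + 1) (exactAt_single_tensor _ n)).1 inferInstance)
    · haveI := h (ModuleCat.of R T)
      exact ((quasiIsoAt_zero_iff C ε (ModuleCat.of R T)).1 inferInstance).1
    · haveI := h (ModuleCat.of R R)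
      exact surjective_of_rTensor (ε.f 0).hom ((quasiIsoAt_zero_iff C ε (ModuleCat.of R R)).1 inferInstance).2
  · intro h T
    refine ⟨fun n => ?_⟩
    cases n with
    | zero => exact (quasiIsoAt_zero_iff C ε T).2 ⟨h.zero T, LinearMap.rTensor_surjective T h.surj⟩
    | succ n =>
      exact (quasiIsoAt_iff_exactAt' _ (n + 1) (exactAt_single_tensor _ n)).2
        ((exactAt_iff_tensor C T n).2 (h.succ n T))

theorem quasiIso_iff_uExactUp (C : CochainComplex (ModuleCat.{u} R) ℕ)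
    (η : (CochainComplex.single₀ (ModuleCat.{u} R)).obj M ⟶ C) :
    (∀ T : ModuleCat.{u} R, QuasiIso (((tensorRight T).mapHomologicalComplex (ComplexShape.up ℕ)).map η)) ↔
      UExactUp C (η.f 0).hom := by
  constructor
  · intro h
    refine ⟨fun n T _ _ => ?_, fun T _ _ => ?_, fun T _ _ => ?_⟩
    · haveI := h (ModuleCat.of R T)
      exact (exactAt_iff_tensor_up C (ModuleCat.of R T) n).1
        ((quasiIsoAt_iff_exactAt (((tensorRight (ModuleCat.of R T)).mapHomologicalComplex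
          (ComplexShape.up ℕ)).map η) (n + 1) (exactAt_single_tensor_up _ n)).1 inferInstance)
    · haveI := h (ModuleCat.of R T)
      exact ((quasiIsoAt_zero_iff_up C η (ModuleCat.of R T)).1 inferInstance).1
    · haveI := h (ModuleCat.of R T)
      exact ((quasiIsoAt_zero_iff_up C η (ModuleCat.of R T)).1 inferInstance).2
  · intro h T
    refine ⟨fun n => ?_⟩
    cases n with
    | zero => exact (quasiIsoAt_zero_iff_up C η T).2 ⟨h.zero T, h.inj T⟩
    | succ n =>
      exact (quasiIsoAt_iff_exactAt _ (n + 1) (exactAt_single_tensor_up _ n)).2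
        ((exactAt_iff_tensor_up C T n).2 (h.succ n T))

theorem lift_through {P L N : Type u} [AddCommGroup P] [Module R P] [AddCommGroup L] [Module R L]
    [AddCommGroup N] [Module R N] (hP : LiftProp R P) (d : L →ₗ[R] N)
    (hker : CAlgX.UniversallyInjective R (LinearMap.ker d).subtype) (φ : P →ₗ[R] N)
    (hφ : ∀ p, φ p ∈ LinearMap.range d) : ∃ ψ : P →ₗ[R] L, d ∘ₗ ψ = φ := by
  have hk : LinearMap.ker d.rangeRestrict = LinearMap.ker d := LinearMap.ker_rangeRestrict d
  obtain ⟨ψ, hψ⟩ := hP d.rangeRestrict d.surjective_rangeRestrict (by rw [hk]; exact hker)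
    (φ.codRestrict _ hφ)
  exact ⟨ψ, LinearMap.ext fun p => congrArg Subtype.val (LinearMap.congr_fun hψ p)⟩

theorem extend_through {I L N : Type u} [AddCommGroup I] [Module R I] [AddCommGroup L] [Module R L]
    [AddCommGroup N] [Module R N] (hI : ExtProp R I) (d : N →ₗ[R] L)
    (hrange : CAlgX.UniversallyInjective R (LinearMap.range d).subtype) (φ : N →ₗ[R] I)
    (hφ : ∀ x, d x = 0 → φ x = 0) : ∃ ψ : L →ₗ[R] I, ψ ∘ₗ d = φ := by
  obtain ⟨ψ, hψ⟩ := hI _ hrange
    ((LinearMap.ker d).liftQ φ (fun x hx => hφ x hx) ∘ₗ d.quotKerEquivRange.symm.toLinearMap)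
  refine ⟨ψ, LinearMap.ext fun x => ?_⟩
  refine (LinearMap.congr_fun hψ (d.rangeRestrict x)).trans ?_
  show (LinearMap.ker d).liftQ φ (fun y hy => hφ y hy) (d.quotKerEquivRange.symm ⟨d x, ⟨x, rfl⟩⟩) = φ x
  rw [LinearMap.quotKerEquivRange_symm_apply_image]
  exact Submodule.liftQ_apply _ _ x

section Exact

variable {C : ChainComplex (ModuleCat.{u} R) ℕ} {ε₀ : C.X 0 →ₗ[R] M}

theorem UExact.ui_ker_succ (h : UExact C ε₀) (n : ℕ) :
    CAlgX.UniversallyInjective R (LinearMap.ker (C.d (n + 1) n).hom).subtype := by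
  have e : LinearMap.ker (C.d (n + 1) n).hom = LinearMap.range (C.d (n + 2) (n + 1)).hom :=
    LinearMap.exact_iff.1 (exact_of_rTensor (h.succ n R))
  rw [e]
  exact ui_range_of_exact (C.d (n + 3) (n + 2)).hom (C.d (n + 2) (n + 1)).hom fun Q _ _ => h.succ (n + 1) Q

theorem UExact.ui_ker_zero (h : UExact C ε₀) : CAlgX.UniversallyInjective R (LinearMap.ker ε₀).subtype := by
  have e : LinearMap.ker ε₀ = LinearMap.range (C.d 1 0).hom :=
    LinearMap.exact_iff.1 (exact_of_rTensor (h.zero R))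
  rw [e]
  exact ui_range_of_exact (C.d 2 1).hom (C.d 1 0).hom fun Q _ _ => h.succ 0 Q

end Exact

section Lift

variable {N : ModuleCat.{u} R} (f : M ⟶ N) {P C : ChainComplex (ModuleCat.{u} R) ℕ}
  (π : P ⟶ (ChainComplex.single₀ (ModuleCat.{u} R)).obj M)
  (ε : C ⟶ (ChainComplex.single₀ (ModuleCat.{u} R)).obj N)

theorem exists_chainMap (hP : ∀ n : ℕ, LiftProp R (P.X n)) (h : UExact C (ε.f 0).hom) :
    ∃ φ : P ⟶ C, φ ≫ ε = π ≫ (ChainComplex.single₀ (ModuleCat.{u} R)).map f := by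
  let t : P.X 0 ⟶ ((ChainComplex.single₀ (ModuleCat.{u} R)).obj N).X 0 :=
    π.f 0 ≫ ((ChainComplex.single₀ (ModuleCat.{u} R)).map f).f 0
  obtain ⟨z, hz⟩ := lift_through (hP 0) (ε.f 0).hom h.ui_ker_zero t.hom (fun p => h.surj _)
  let zero : P.X 0 ⟶ C.X 0 := ModuleCat.ofHom z
  have hzero : zero ≫ ε.f 0 = t := ModuleCat.hom_ext hz
  have hπ : P.d 1 0 ≫ t = 0 := by
    show P.d 1 0 ≫ π.f 0 ≫ _ = 0
    rw [← Category.assoc, ← π.comm 1 0, HomologicalComplex.single_obj_d, comp_zero, zero_comp]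
  have h1 : ∀ p, (P.d 1 0 ≫ zero).hom p ∈ LinearMap.range (C.d 1 0).hom := fun p =>
    ((exact_of_rTensor (h.zero R)) _).1 (by
      show (ε.f 0).hom ((P.d 1 0 ≫ zero).hom p) = 0
      rw [← LinearMap.comp_apply, ← ModuleCat.hom_comp, Category.assoc, hzero, hπ]
      rfl)
  obtain ⟨o, ho⟩ := lift_through (hP 1) (C.d 1 0).hom (h.ui_ker_succ 0) (P.d 1 0 ≫ zero).hom h1
  have hsucc : ∀ (n : ℕ) (p : Σ' (g : P.X n ⟶ C.X n) (g' : P.X (n + 1) ⟶ C.X (n + 1)),
      g' ≫ C.d (n + 1) n = P.d (n + 1) n ≫ g),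
      ∃ g'' : P.X (n + 2) ⟶ C.X (n + 2), g'' ≫ C.d (n + 2) (n + 1) = P.d (n + 2) (n + 1) ≫ p.2.1 := by
    intro n p
    obtain ⟨g₁, g₂, hp⟩ := p
    dsimp only
    obtain ⟨ψ, hψ⟩ := lift_through (hP (n + 2)) (C.d (n + 2) (n + 1)).hom (h.ui_ker_succ (n + 1))
      (P.d (n + 2) (n + 1) ≫ g₂).hom (fun x => ((exact_of_rTensor (h.succ n R)) _).1 (by
        rw [← LinearMap.comp_apply, ← ModuleCat.hom_comp, Category.assoc, hp, ← Category.assoc, P.d_comp_d,
          zero_comp]
        rfl))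
    exact ⟨ModuleCat.ofHom ψ, ModuleCat.hom_ext hψ⟩
  choose g hg using hsucc
  let Φ := ChainComplex.mkHom P C zero (ModuleCat.ofHom o) (ModuleCat.hom_ext ho) (fun n p => ⟨g n p, hg n p⟩)
  refine ⟨Φ, HomologicalComplex.to_single_hom_ext ?_⟩
  exact hzero

theorem nonempty_homotopy (hP : ∀ n : ℕ, LiftProp R (P.X n)) (h : UExact C (ε.f 0).hom) (α β : P ⟶ C)
    (hαβ : α ≫ ε = β ≫ ε) : Nonempty (Homotopy α β) := by
  let e : P ⟶ C := α - β
  have he : e.f 0 ≫ ε.f 0 = 0 := by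
    show (α.f 0 - β.f 0) ≫ ε.f 0 = 0
    rw [Preadditive.sub_comp, ← HomologicalComplex.comp_f, ← HomologicalComplex.comp_f, hαβ, sub_self]
  obtain ⟨z, hz⟩ := lift_through (hP 0) (C.d 1 0).hom (h.ui_ker_succ 0) (e.f 0).hom (fun p =>
    ((exact_of_rTensor (h.zero R)) _).1 (by
      rw [← LinearMap.comp_apply, ← ModuleCat.hom_comp, he]
      rfl))
  let zero : P.X 0 ⟶ C.X 1 := ModuleCat.ofHom z
  have hzero : zero ≫ C.d 1 0 = e.f 0 := ModuleCat.hom_ext hz
  obtain ⟨o, ho⟩ := lift_through (hP 1) (C.d 2 1).hom (h.ui_ker_succ 1) (e.f 1 - P.d 1 0 ≫ zero).hom (fun p =>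
    ((exact_of_rTensor (h.succ 0 R)) _).1 (by
      rw [← LinearMap.comp_apply, ← ModuleCat.hom_comp, Preadditive.sub_comp, Category.assoc, hzero,
        e.comm 1 0, sub_self]
      rfl))
  have hone : ModuleCat.ofHom o ≫ C.d 2 1 = e.f 1 - P.d 1 0 ≫ zero := ModuleCat.hom_ext ho
  have hsucc : ∀ (n : ℕ) (p : Σ' (g : P.X n ⟶ C.X (n + 1)) (g' : P.X (n + 1) ⟶ C.X (n + 2)),
      e.f (n + 1) = P.d (n + 1) n ≫ g + g' ≫ C.d (n + 2) (n + 1)),
      ∃ g'' : P.X (n + 2) ⟶ C.X (n + 3),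
        e.f (n + 2) = P.d (n + 2) (n + 1) ≫ p.2.1 + g'' ≫ C.d (n + 3) (n + 2) := by
    intro n p
    obtain ⟨g₁, g₂, hp⟩ := p
    dsimp only
    obtain ⟨ψ, hψ⟩ := lift_through (hP (n + 2)) (C.d (n + 3) (n + 2)).hom (h.ui_ker_succ (n + 2))
      (e.f (n + 2) - P.d (n + 2) (n + 1) ≫ g₂).hom (fun x => ((exact_of_rTensor (h.succ (n + 1) R)) _).1 (by
        rw [← LinearMap.comp_apply, ← ModuleCat.hom_comp, Preadditive.sub_comp, Category.assoc,
          e.comm (n + 2) (n + 1), hp, Preadditive.comp_add, ← Category.assoc, P.d_comp_d, zero_comp, zero_add,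
          sub_self]
        rfl))
    refine ⟨ModuleCat.ofHom ψ, ?_⟩
    rw [show ModuleCat.ofHom ψ ≫ C.d (n + 3) (n + 2) = e.f (n + 2) - P.d (n + 2) (n + 1) ≫ g₂ from
      ModuleCat.hom_ext hψ, add_sub_cancel]
  choose g hg using hsucc
  exact ⟨Homotopy.equivSubZero.symm (Homotopy.mkInductive e zero hzero.symm (ModuleCat.ofHom o)
    (by rw [hone, add_sub_cancel]) (fun n p => ⟨g n p, hg n p⟩))⟩

end Lift

section Extend

variable {N : ModuleCat.{u} R} (f : M ⟶ N) {C I : CochainComplex (ModuleCat.{u} R) ℕ}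
  (η : (CochainComplex.single₀ (ModuleCat.{u} R)).obj M ⟶ C)
  (ε : (CochainComplex.single₀ (ModuleCat.{u} R)).obj N ⟶ I)

theorem UExactUp.ui_range (h : UExactUp C (η.f 0).hom) (n : ℕ) :
    CAlgX.UniversallyInjective R (LinearMap.range (C.d n (n + 1)).hom).subtype := by
  cases n with
  | zero => exact ui_range_of_exact (η.f 0).hom (C.d 0 1).hom fun Q _ _ => h.zero Q
  | succ n => exact ui_range_of_exact (C.d n (n + 1)).hom (C.d (n + 1) (n + 2)).hom fun Q _ _ => h.succ n Q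

theorem exists_cochainMap (hI : ∀ n : ℕ, ExtProp R (I.X n)) (h : UExactUp C (η.f 0).hom) :
    ∃ φ : C ⟶ I, η ≫ φ = (CochainComplex.single₀ (ModuleCat.{u} R)).map f ≫ ε := by
  let t : ((CochainComplex.single₀ (ModuleCat.{u} R)).obj M).X 0 ⟶ I.X 0 :=
    ((CochainComplex.single₀ (ModuleCat.{u} R)).map f).f 0 ≫ ε.f 0
  obtain ⟨z, hz⟩ := hI 0 (η.f 0).hom h.inj t.hom
  let zero : C.X 0 ⟶ I.X 0 := ModuleCat.ofHom z
  have hzero : η.f 0 ≫ zero = t := ModuleCat.hom_ext hz
  have hε : t ≫ I.d 0 1 = 0 := by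
    show (_ ≫ ε.f 0) ≫ I.d 0 1 = 0
    rw [Category.assoc, ε.comm 0 1, HomologicalComplex.single_obj_d, zero_comp, comp_zero]
  obtain ⟨o, ho⟩ := extend_through (hI 1) (C.d 0 1).hom (h.ui_range η 0) (zero ≫ I.d 0 1).hom (fun x hx => by
    obtain ⟨w, rfl⟩ := ((exact_of_rTensor (h.zero R)) x).1 hx
    show ((η.f 0 ≫ zero ≫ I.d 0 1).hom) w = 0
    rw [← Category.assoc, hzero, hε]
    rfl)
  have hone : C.d 0 1 ≫ ModuleCat.ofHom o = zero ≫ I.d 0 1 := ModuleCat.hom_ext ho
  have hsucc : ∀ (n : ℕ) (p : Σ' (g : C.X n ⟶ I.X n) (g' : C.X (n + 1) ⟶ I.X (n + 1)),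
      g ≫ I.d n (n + 1) = C.d n (n + 1) ≫ g'),
      ∃ g'' : C.X (n + 2) ⟶ I.X (n + 2), p.2.1 ≫ I.d (n + 1) (n + 2) = C.d (n + 1) (n + 2) ≫ g'' := by
    intro n p
    obtain ⟨g₁, g₂, hp⟩ := p
    dsimp only
    obtain ⟨ψ, hψ⟩ := extend_through (hI (n + 2)) (C.d (n + 1) (n + 2)).hom (h.ui_range η (n + 1))
      (g₂ ≫ I.d (n + 1) (n + 2)).hom (fun x hx => by
        obtain ⟨w, rfl⟩ := ((exact_of_rTensor (h.succ n R)) x).1 hx
        show ((C.d n (n + 1) ≫ g₂ ≫ I.d (n + 1) (n + 2)).hom) w = 0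
        rw [← Category.assoc, ← hp, Category.assoc, I.d_comp_d, comp_zero]
        rfl)
    exact ⟨ModuleCat.ofHom ψ, (ModuleCat.hom_ext hψ).symm⟩
  choose g hg using hsucc
  refine ⟨CochainComplex.mkHom C I zero (ModuleCat.ofHom o) hone.symm (fun n p => ⟨g n p, hg n p⟩),
    HomologicalComplex.from_single_hom_ext ?_⟩
  exact hzero

theorem nonempty_homotopy_up (hI : ∀ n : ℕ, ExtProp R (I.X n)) (h : UExactUp C (η.f 0).hom) (α β : C ⟶ I)
    (hαβ : η ≫ α = η ≫ β) : Nonempty (Homotopy α β) := by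
  let e : C ⟶ I := α - β
  have he : η.f 0 ≫ e.f 0 = 0 := by
    show η.f 0 ≫ (α.f 0 - β.f 0) = 0
    rw [Preadditive.comp_sub, ← HomologicalComplex.comp_f, ← HomologicalComplex.comp_f, hαβ, sub_self]
  obtain ⟨z, hz⟩ := extend_through (hI 0) (C.d 0 1).hom (h.ui_range η 0) (e.f 0).hom (fun x hx => by
    obtain ⟨w, rfl⟩ := ((exact_of_rTensor (h.zero R)) x).1 hx
    show ((η.f 0 ≫ e.f 0).hom) w = 0
    rw [he]
    rfl)
  let zero : C.X 1 ⟶ I.X 0 := ModuleCat.ofHom z
  have hzero : C.d 0 1 ≫ zero = e.f 0 := ModuleCat.hom_ext hz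
  obtain ⟨o, ho⟩ := extend_through (hI 1) (C.d 1 2).hom (h.ui_range η 1) (e.f 1 - zero ≫ I.d 0 1).hom
    (fun x hx => by
      obtain ⟨w, rfl⟩ := ((exact_of_rTensor (h.succ 0 R)) x).1 hx
      show ((C.d 0 1 ≫ (e.f 1 - zero ≫ I.d 0 1)).hom) w = 0
      rw [Preadditive.comp_sub, ← Category.assoc, hzero, e.comm 0 1, sub_self]
      rfl)
  have hone : C.d 1 2 ≫ ModuleCat.ofHom o = e.f 1 - zero ≫ I.d 0 1 := ModuleCat.hom_ext ho
  have hsucc : ∀ (n : ℕ) (p : Σ' (g : C.X (n + 1) ⟶ I.X n) (g' : C.X (n + 2) ⟶ I.X (n + 1)),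
      e.f (n + 1) = g ≫ I.d n (n + 1) + C.d (n + 1) (n + 2) ≫ g'),
      ∃ g'' : C.X (n + 3) ⟶ I.X (n + 2),
        e.f (n + 2) = p.2.1 ≫ I.d (n + 1) (n + 2) + C.d (n + 2) (n + 3) ≫ g'' := by
    intro n p
    obtain ⟨g₁, g₂, hp⟩ := p
    dsimp only
    obtain ⟨ψ, hψ⟩ := extend_through (hI (n + 2)) (C.d (n + 2) (n + 3)).hom (h.ui_range η (n + 2))
      (e.f (n + 2) - g₂ ≫ I.d (n + 1) (n + 2)).hom (fun x hx => by
        obtain ⟨w, rfl⟩ := ((exact_of_rTensor (h.succ (n + 1) R)) x).1 hx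
        show ((C.d (n + 1) (n + 2) ≫ (e.f (n + 2) - g₂ ≫ I.d (n + 1) (n + 2))).hom) w = 0
        rw [Preadditive.comp_sub, ← e.comm (n + 1) (n + 2), hp, Preadditive.add_comp, Category.assoc,
          I.d_comp_d, comp_zero, zero_add, Category.assoc, sub_self]
        rfl)
    refine ⟨ModuleCat.ofHom ψ, ?_⟩
    rw [show C.d (n + 2) (n + 3) ≫ ModuleCat.ofHom ψ = e.f (n + 2) - g₂ ≫ I.d (n + 1) (n + 2) from
      ModuleCat.hom_ext hψ, add_sub_cancel]
  choose g hg using hsucc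
  exact ⟨Homotopy.equivSubZero.symm (Homotopy.mkCoinductive e zero hzero.symm (ModuleCat.ofHom o)
    (by rw [hone, add_sub_cancel]) (fun n p => ⟨g n p, hg n p⟩))⟩

end Extend

/-! ### Existence -/

section Existence

variable (R)

theorem exact_comp_rTensor {X Y Z W : Type u} [AddCommGroup X] [Module R X] [AddCommGroup Y] [Module R Y]
    [AddCommGroup Z] [Module R Z] [AddCommGroup W] [Module R W] {f : X →ₗ[R] Y} {g : Y →ₗ[R] Z}
    (hfg : Function.Exact f g) (hg : Function.Surjective g) {ι : Z →ₗ[R] W} (hι : CAlgX.UniversallyInjective R ι)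
    {V : Type u} [AddCommGroup V] [Module R V] {p : V →ₗ[R] X} (hp : Function.Surjective p)
    (T : Type u) [AddCommGroup T] [Module R T] :
    Function.Exact ((f ∘ₗ p).rTensor T) ((ι ∘ₗ g).rTensor T) := by
  intro y
  rw [LinearMap.rTensor_comp_apply, map_eq_zero_iff _ (hι T)]
  refine (rTensor_exact T hfg hg y).trans ⟨?_, ?_⟩
  · rintro ⟨x, rfl⟩
    obtain ⟨v, rfl⟩ := LinearMap.rTensor_surjective T hp x
    exact ⟨v, LinearMap.rTensor_comp_apply T f p v⟩
  · rintro ⟨v, rfl⟩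
    exact ⟨p.rTensor T v, (LinearMap.rTensor_comp_apply T f p v).symm⟩

/-- Iteration of an operation on modules. -/
def iter (F : ModuleCat.{u} R → ModuleCat.{u} R) (M : ModuleCat.{u} R) : ℕ → ModuleCat.{u} R
  | 0 => M
  | n + 1 => F (iter F M n)

theorem exists_resolution (M : ModuleCat.{u} R) :
    ∃ (P : ChainComplex (ModuleCat.{u} R) ℕ) (π : P ⟶ (ChainComplex.single₀ (ModuleCat.{u} R)).obj M),
      (∀ n : ℕ, SummandFP R (P.X n)) ∧ UExact P (π.f 0).hom := by
  have hc : ∀ X : ModuleCat.{u} R, ∃ (Y : ModuleCat.{u} R) (g : Y ⟶ X),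
      SummandFP R Y ∧ Function.Surjective g.hom ∧ CAlgX.UniversallyInjective R (LinearMap.ker g.hom).subtype := by
    intro X
    obtain ⟨ι, Q, _, _, hQ, g, hg, hui⟩ := exists_cover (R := R) X
    refine ⟨ModuleCat.of R (Π₀ i, Q i), ModuleCat.ofHom g, ⟨ι, Q, inferInstance, inferInstance, hQ,
      LinearMap.id, LinearMap.id, rfl⟩, hg, hui⟩
  choose Y g hY hg hui using hc
  let K : ℕ → ModuleCat.{u} R := iter R (fun X => ModuleCat.of R (LinearMap.ker (g X).hom)) M
  let inc : ∀ X : ModuleCat.{u} R, ModuleCat.of R (LinearMap.ker (g X).hom) ⟶ Y X := fun X =>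
    ModuleCat.ofHom (LinearMap.ker (g X).hom).subtype
  let d : ∀ n, Y (K (n + 1)) ⟶ Y (K n) := fun n => g (K (n + 1)) ≫ inc (K n)
  have sq : ∀ n, d (n + 1) ≫ d n = 0 := fun n => by
    refine ModuleCat.hom_ext (LinearMap.ext fun x => ?_)
    show ((g (K (n + 1))).hom ((g (K (n + 2))).hom x).1).1 = 0
    rw [LinearMap.mem_ker.1 ((g (K (n + 2))).hom x).2]
    rfl
  let P := ChainComplex.of (fun n => Y (K n)) d sq
  have hPd : ∀ n, P.d (n + 1) n = d n := fun n => ChainComplex.of_d (fun n => Y (K n)) d n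
  have hd0 : P.d 1 0 ≫ g (K 0) = 0 := by
    rw [hPd 0]
    refine ModuleCat.hom_ext (LinearMap.ext fun x => ?_)
    exact LinearMap.mem_ker.1 ((g (K 1)).hom x).2
  refine ⟨P, (ChainComplex.toSingle₀Equiv P M).symm ⟨g (K 0), hd0⟩, fun n => hY _, ?_⟩
  have hπ : ((ChainComplex.toSingle₀Equiv P M).symm ⟨g (K 0), hd0⟩).f 0 = g (K 0) :=
    ChainComplex.toSingle₀Equiv_symm_apply_f_zero _ _
  rw [hπ]
  refine ⟨fun n T _ _ => ?_, fun T _ _ => ?_, hg _⟩
  · rw [hPd (n + 1), hPd n]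
    exact exact_comp_rTensor R (LinearMap.exact_subtype_ker_map (g (K (n + 1))).hom) (hg _) (hui (K n)) (hg _) T
  · rw [hPd 0]
    exact exact_comp_rTensor R (LinearMap.exact_subtype_ker_map (g (K 0)).hom) (hg _)
      (ι := LinearMap.id) (fun Q _ _ => by rw [LinearMap.rTensor_id]; exact Function.injective_id) (hg _) T

theorem exists_coresolution (M : ModuleCat.{u} R) :
    ∃ (I : CochainComplex (ModuleCat.{u} R) ℕ) (η : (CochainComplex.single₀ (ModuleCat.{u} R)).obj M ⟶ I),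
      (∀ n : ℕ, ExtProp R (I.X n)) ∧ UExactUp I (η.f 0).hom := by
  let J : ModuleCat.{u} R → ModuleCat.{u} R := fun X => ModuleCat.of R (CharacterModule (CharacterModule X))
  let j : ∀ X, X ⟶ J X := fun X => ModuleCat.ofHom (PureExt.charEval R X)
  let K : ℕ → ModuleCat.{u} R := iter R (fun X => ModuleCat.of R (J X ⧸ LinearMap.range (j X).hom)) M
  let q : ∀ X : ModuleCat.{u} R, J X ⟶ ModuleCat.of R (J X ⧸ LinearMap.range (j X).hom) := fun X =>
    ModuleCat.ofHom (LinearMap.range (j X).hom).mkQ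
  let d : ∀ n, J (K n) ⟶ J (K (n + 1)) := fun n => q (K n) ≫ j (K (n + 1))
  have sq : ∀ n, d n ≫ d (n + 1) = 0 := fun n => by
    refine ModuleCat.hom_ext (LinearMap.ext fun x => ?_)
    show (j (K (n + 2))).hom ((LinearMap.range (j (K (n + 1))).hom).mkQ ((j (K (n + 1))).hom _)) = 0
    exact (congrArg _ ((Submodule.Quotient.mk_eq_zero (LinearMap.range (j (K (n + 1))).hom)).2
      (LinearMap.mem_range_self _ _))).trans (map_zero (j (K (n + 2))).hom)
  let I := CochainComplex.of (fun n => J (K n)) d sq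
  have hId : ∀ n, I.d n (n + 1) = d n := fun n => CochainComplex.of_d (fun n => J (K n)) d n
  have hd0 : j (K 0) ≫ I.d 0 1 = 0 := by
    rw [hId 0]
    refine ModuleCat.hom_ext (LinearMap.ext fun x => ?_)
    show (j (K 1)).hom ((LinearMap.range (j (K 0)).hom).mkQ ((j (K 0)).hom x)) = 0
    exact (congrArg _ ((Submodule.Quotient.mk_eq_zero (LinearMap.range (j (K 0)).hom)).2
      (LinearMap.mem_range_self _ _))).trans (map_zero (j (K 1)).hom)
  refine ⟨I, (CochainComplex.fromSingle₀Equiv I M).symm ⟨j (K 0), hd0⟩,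
    fun n => extProp_characterModule (R := R) _, ?_⟩
  have hη : ((CochainComplex.fromSingle₀Equiv I M).symm ⟨j (K 0), hd0⟩).f 0 = j (K 0) :=
    CochainComplex.fromSingle₀Equiv_symm_apply_f_zero _ _
  rw [hη]
  have hex : ∀ X, Function.Exact (j X).hom (LinearMap.range (j X).hom).mkQ := fun X =>
    LinearMap.exact_map_mkQ_range _
  refine ⟨fun n T _ _ => ?_, fun T _ _ => ?_, ui_charEval _⟩
  · rw [hId n, hId (n + 1)]
    exact exact_comp_rTensor R (hex (K (n + 1))) (Submodule.mkQ_surjective _) (ui_charEval _)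
      (Submodule.mkQ_surjective _) T
  · rw [hId 0]
    exact exact_comp_rTensor R (hex (K 0)) (Submodule.mkQ_surjective _) (ui_charEval _)
      (p := LinearMap.id) Function.surjective_id T

end Existence

end Groth.Agent.PureExt8
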